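import Groth.Agent.FrobAlg.K673.Lift
import Mathlib.RingTheory.Flat.FaithfullyFlat.Algebra
import Mathlib.Algebra.Module.FinitePresentation
import Mathlib.LinearAlgebra.Matrix.ToLin

/-!
# Liftings over `W₂(k)` and linear maps out of the conormal module

Let `P` be a `W₂(k)`-algebra with a surjection `θ : P → A` and kernel `I` (containing `p`).
* a `P`-linear map `t : I → A` with `t p = 1` gives a flat lifting of `A` over `W₂(k)`
  (`isW2Liftable_of_linearMap`);
* if `B` is an `A`-algebra with a flat lifting `B'` and `ψ : P → B'` lifts `P → A → B`, there is a `P`-linear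
  map `T : I → B` with `T p = 1` (`exists_linearMap_of_isLift`);
* for `A → B` faithfully flat and `M` a finitely presented `P`-module, `m ∈ M`: if there is a `P`-linear
  `T : M → B` with `T m = 1`, there is a `P`-linear `t : M → A` with `t m = 1`
  (`exists_linearMap_eq_one_of_faithfullyFlat`).
-/

set_option autoImplicit false
set_option linter.unusedSectionVars false
universe u v w

namespace K673.Conormal

open FrobAlg K673.W2Basic K673.Lift TensorProduct

section linear

/-- A linear system over `A` which has a solution in a faithfully flat `A`-algebra has a solution in `A`. -/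
theorem exists_solution_of_faithfullyFlat {A B : Type*} [CommRing A] [CommRing B] [Algebra A B]
    [Module.FaithfullyFlat A B] {ι κ : Type*} [Fintype ι] [Fintype κ] (L : κ → ι → A) (w : κ → A)
    (t : ι → B) (ht : ∀ j, ∑ i, algebraMap A B (L j i) * t i = algebraMap A B (w j)) :
    ∃ s : ι → A, ∀ j, ∑ i, L j i * s i = w j := by
  classical
  let F : (ι → A) →ₗ[A] (κ → A) := (Matrix.of L).mulVecLin
  have hF : ∀ s j, F s j = ∑ i, L j i * s i := fun s j => rfl
  suffices h : w ∈ LinearMap.range F by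
    obtain ⟨s, hs⟩ := h
    exact ⟨s, fun j => by rw [← hF, hs]⟩
  rw [← Submodule.Quotient.mk_eq_zero]
  apply Module.FaithfullyFlat.tensorProduct_mk_injective (A := A) (B := B)
    ((κ → A) ⧸ LinearMap.range F)
  rw [map_zero, TensorProduct.mk_apply]
  have hdec : ∀ x : κ → A, (1 : B) ⊗ₜ[A] (Submodule.Quotient.mk x : (κ → A) ⧸ LinearMap.range F) =
      ∑ j, (algebraMap A B (x j)) ⊗ₜ[A]
        (Submodule.Quotient.mk (Pi.single j 1) : (κ → A) ⧸ LinearMap.range F) := by
    intro x
    have h1 : (Submodule.Quotient.mk x : (κ → A) ⧸ LinearMap.range F) =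
        ∑ j, x j • (Submodule.Quotient.mk (Pi.single j 1) : (κ → A) ⧸ LinearMap.range F) := by
      conv_lhs => rw [pi_eq_sum_univ' x]
      rw [← Submodule.mkQ_apply, map_sum]
      refine Finset.sum_congr rfl fun j _ => ?_
      rw [Submodule.mkQ_apply, ← Submodule.Quotient.mk_smul]
    rw [h1, TensorProduct.tmul_sum]
    refine Finset.sum_congr rfl fun j _ => ?_
    rw [TensorProduct.tmul_smul, TensorProduct.smul_tmul', ← Algebra.algebraMap_eq_smul_one]
  rw [hdec]
  have h2 : ∀ j, (algebraMap A B (w j)) ⊗ₜ[A]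
        (Submodule.Quotient.mk (Pi.single j 1) : (κ → A) ⧸ LinearMap.range F) =
      ∑ i, (t i) ⊗ₜ[A] ((L j i) •
        (Submodule.Quotient.mk (Pi.single j 1) : (κ → A) ⧸ LinearMap.range F)) := by
    intro j
    rw [← ht j, TensorProduct.sum_tmul]
    refine Finset.sum_congr rfl fun i _ => ?_
    rw [← Algebra.smul_def, TensorProduct.smul_tmul]
  rw [Finset.sum_congr rfl fun j _ => h2 j, Finset.sum_comm]
  refine Finset.sum_eq_zero fun i _ => ?_
  rw [← TensorProduct.tmul_sum]
  have h3 : ∑ j, (L j i) • (Submodule.Quotient.mk (Pi.single j 1) : (κ → A) ⧸ LinearMap.range F) =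
      Submodule.Quotient.mk (F (Pi.single i 1)) := by
    rw [pi_eq_sum_univ' (F (Pi.single i 1)), ← Submodule.mkQ_apply, map_sum]
    refine Finset.sum_congr rfl fun j _ => ?_
    rw [Submodule.mkQ_apply, ← Submodule.Quotient.mk_smul]
    congr 1
    ext l
    simp [hF, Pi.single_apply, eq_comm]
  have h4 : (Submodule.Quotient.mk (F (Pi.single i 1)) : (κ → A) ⧸ LinearMap.range F) = 0 :=
    (Submodule.Quotient.mk_eq_zero _).2 (LinearMap.mem_range_self _ _)
  rw [h3, h4, TensorProduct.tmul_zero]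

theorem exists_linearMap_eq_one_of_faithfullyFlat {P A B : Type*} [CommRing P] [CommRing A]
    [CommRing B] [Algebra P A] [Algebra A B] [Algebra P B] [IsScalarTower P A B]
    [Module.FaithfullyFlat A B] {M : Type*} [AddCommGroup M] [Module P M]
    [Module.FinitePresentation P M] (m : M) (T : M →ₗ[P] B) (hT : T m = 1) :
    ∃ t : M →ₗ[P] A, t m = 1 := by
  classical
  obtain ⟨n, K, e, S, hS⟩ := Module.FinitePresentation.exists_fin P M
  let T' : (Fin n → P) →ₗ[P] B := T ∘ₗ e.symm.toLinearMap ∘ₗ K.mkQ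
  have hT' : ∀ x, ∑ i, algebraMap A B (algebraMap P A (x i)) * T' (Pi.single i 1) = T' x := by
    intro x
    conv_rhs => rw [pi_eq_sum_univ' x]
    rw [map_sum]
    refine Finset.sum_congr rfl fun i _ => ?_
    rw [← IsScalarTower.algebraMap_apply P A B, ← Algebra.smul_def, ← map_smul]
  obtain ⟨v, hv⟩ := K.mkQ_surjective (e m)
  have hv1 : T' v = 1 := by
    change T (e.symm (K.mkQ v)) = 1
    rw [hv, LinearEquiv.symm_apply_apply, hT]
  have hS0 : ∀ s ∈ S, T' s = 0 := by
    intro s hs
    change T (e.symm (K.mkQ s)) = 0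
    have : K.mkQ s = 0 := by
      rw [Submodule.mkQ_apply, Submodule.Quotient.mk_eq_zero, ← hS]
      exact Submodule.subset_span hs
    rw [this, map_zero, map_zero]
  obtain ⟨s, hs⟩ := exists_solution_of_faithfullyFlat (A := A) (B := B) (ι := Fin n) (κ := Option S)
    (fun j i => match j with
      | none => algebraMap P A (v i)
      | some s => algebraMap P A (s.1 i))
    (fun j => match j with
      | none => 1
      | some _ => 0) (fun i => T' (Pi.single i 1)) (by
        rintro (_ | s)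
        · change ∑ i, algebraMap A B (algebraMap P A (v i)) * T' (Pi.single i 1) = _
          rw [hT', hv1, map_one]
        · change ∑ i, algebraMap A B (algebraMap P A (s.1 i)) * T' (Pi.single i 1) = _
          rw [hT', hS0 _ s.2, map_zero])
  let t' : (Fin n → P) →ₗ[P] A := Fintype.linearCombination P s
  have ht' : ∀ x, t' x = ∑ i, algebraMap P A (x i) * s i := fun x => by
    rw [Fintype.linearCombination_apply]
    exact Finset.sum_congr rfl fun i _ => Algebra.smul_def _ _
  have hK : K ≤ LinearMap.ker t' := by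
    rw [← hS, Submodule.span_le]
    intro x hx
    rw [SetLike.mem_coe, LinearMap.mem_ker, ht']
    exact hs (some ⟨x, hx⟩)
  refine ⟨(K.liftQ t' hK) ∘ₗ e.toLinearMap, ?_⟩
  change K.liftQ t' hK (e m) = 1
  rw [← hv, Submodule.mkQ_apply, Submodule.liftQ_apply, ht']
  exact hs none

end linear

section lift

variable {p : ℕ} [Fact p.Prime] {k : Type u} [Field k] [CharP k p] [PerfectRing k p]

theorem isW2Liftable_of_linearMap {A : Type v} [CommRing A] [Algebra k A] {P : Type v} [CommRing P]
    [Algebra P A] (hsurj : Function.Surjective (algebraMap P A)) (ι : W2 p k →+* P)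
    (hι : (algebraMap P A).comp ι = (algebraMap k A).comp (res p k))
    (hp : (p : P) ∈ RingHom.ker (algebraMap P A))
    (t : RingHom.ker (algebraMap P A) →ₗ[P] A) (ht : t ⟨(p : P), hp⟩ = 1) :
    FrobAlg.IsW2Liftable p k A := by
  let J : Ideal P := (LinearMap.ker t).map (Submodule.subtype (RingHom.ker (algebraMap P A)))
  have hJ : ∀ x, x ∈ J ↔ ∃ h : x ∈ RingHom.ker (algebraMap P A), t ⟨x, h⟩ = 0 := by
    intro x
    rw [Submodule.mem_map]
    constructor
    · rintro ⟨y, hy, rfl⟩
      exact ⟨y.2, hy⟩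
    · rintro ⟨h, hx⟩
      exact ⟨⟨x, h⟩, hx, rfl⟩
  have hpx : ∀ x : P, ∃ h : (p : P) * x ∈ RingHom.ker (algebraMap P A),
      t ⟨(p : P) * x, h⟩ = algebraMap P A x := by
    intro x
    refine ⟨Ideal.mul_mem_right _ _ hp, ?_⟩
    have : (⟨(p : P) * x, Ideal.mul_mem_right _ _ hp⟩ : RingHom.ker (algebraMap P A)) =
        x • ⟨(p : P), hp⟩ := Subtype.ext (mul_comm _ _)
    rw [this, map_smul, ht, Algebra.smul_def, mul_one]
  let π : P ⧸ J →+* A := Ideal.Quotient.lift J (algebraMap P A) (fun x hx => ((hJ x).1 hx).1)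
  have hπ : ∀ x : P, π (Ideal.Quotient.mk J x) = algebraMap P A x := fun x =>
    Ideal.Quotient.lift_mk _ _ _
  refine ⟨P ⧸ J, inferInstance, (Ideal.Quotient.mk J).comp ι, π, isLift_iff.2 ⟨?_, ?_, ?_, ?_⟩⟩
  · intro a
    obtain ⟨x, rfl⟩ := hsurj a
    exact ⟨Ideal.Quotient.mk J x, hπ x⟩
  · intro b hb
    obtain ⟨x, rfl⟩ := Ideal.Quotient.mk_surjective b
    rw [← map_natCast (Ideal.Quotient.mk J), ← map_mul, Ideal.Quotient.eq_zero_iff_mem, hJ] at hb
    obtain ⟨h, hx⟩ := hb
    obtain ⟨h', hx'⟩ := hpx x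
    rw [hπ, ← hx', hx]
  · intro b hb
    obtain ⟨x, rfl⟩ := Ideal.Quotient.mk_surjective b
    rw [hπ] at hb
    obtain ⟨y, hy⟩ := hsurj (t ⟨x, hb⟩)
    refine ⟨Ideal.Quotient.mk J y, ?_⟩
    rw [← map_natCast (Ideal.Quotient.mk J), ← map_mul, ← sub_eq_zero, ← map_sub,
      Ideal.Quotient.eq_zero_iff_mem, hJ]
    obtain ⟨h', hy'⟩ := hpx y
    refine ⟨(RingHom.ker _).sub_mem hb h', ?_⟩
    have : (⟨x - (p : P) * y, (RingHom.ker _).sub_mem hb h'⟩ : RingHom.ker (algebraMap P A)) =
        ⟨x, hb⟩ - ⟨(p : P) * y, h'⟩ := rfl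
    rw [this, map_sub, hy', hy, sub_self]
  · ext w
    change π (Ideal.Quotient.mk J (ι w)) = _
    rw [hπ, ← hι]
    rfl

theorem exists_linearMap_of_isLift {A B : Type v} [CommRing A] [CommRing B] [Algebra k B]
    [Algebra A B] {B' : Type v} [CommRing B'] {ιB : W2 p k →+* B'} {πB : B' →+* B}
    (hB : IsLift p k B B' ιB πB) {P : Type w} [CommRing P] [Algebra P A] [Algebra P B]
    [IsScalarTower P A B] (ψ : P →+* B') (hψ : πB.comp ψ = algebraMap P B)
    (hp : (p : P) ∈ RingHom.ker (algebraMap P A)) :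
    ∃ T : RingHom.ker (algebraMap P A) →ₗ[P] B, T ⟨(p : P), hp⟩ = 1 := by
  have hψ' : ∀ x, πB (ψ x) = algebraMap P B x := fun x => by rw [← hψ]; rfl
  have h1 : ∀ x : RingHom.ker (algebraMap P A), ∃ b : B, jmap hB b = ψ x.1 := by
    intro x
    apply exists_jmap hB
    rw [hψ', IsScalarTower.algebraMap_apply P A B, (RingHom.mem_ker).1 x.2, map_zero]
  choose T hT using h1
  refine ⟨{ toFun := T, map_add' := fun x y => ?_, map_smul' := fun c x => ?_ }, ?_⟩
  · apply jmap_injective hB
    rw [map_add, hT, hT, hT, ← map_add]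
    rfl
  · apply jmap_injective hB
    rw [hT, RingHom.id_apply, Algebra.smul_def, ← hψ', jmap_mul_left, hT, ← map_mul]
    rfl
  · apply jmap_injective hB
    change jmap hB (T ⟨(p : P), hp⟩) = _
    rw [hT, map_natCast, ← map_one πB, jmap_pi, mul_one]

end lift

end K673.Conormal
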