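import Groth.Agent.FrobAlg.K673.W2Basic

/-!
# Flat liftings over `W₂(k)`: element-wise description
-/

set_option autoImplicit false
set_option linter.unusedSectionVars false
universe u v w

namespace K673.Lift

open FrobAlg K673.W2Basic

section flat

variable (p : ℕ) [Fact p.Prime] (k : Type u) [Field k] [CharP k p] [PerfectRing k p]
  {B : Type v} [CommRing B]

theorem ringHom_flat_iff (ι : W2 p k →+* B) :
    ι.Flat ↔ ∀ b : B, (p : B) * b = 0 → ∃ b', b = (p : B) * b' := by
  let _ := ι.toAlgebra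
  have h1 : ι.Flat ↔ Module.Flat (W2 p k) B := Iff.rfl
  rw [h1, flat_iff]
  have h2 : ∀ b : B, (p : W2 p k) • b = (p : B) * b := fun b => by
    rw [Algebra.smul_def, map_natCast]
  simp only [h2]

end flat

section lift

variable {p : ℕ} [Fact p.Prime] {k : Type u} [Field k] [CharP k p] [PerfectRing k p]
  {A : Type v} [CommRing A] [Algebra k A]
  {B : Type v} [CommRing B] {ι : W2 p k →+* B} {π : B →+* A}

theorem isLift_iff : IsLift p k A B ι π ↔ Function.Surjective π ∧
    (∀ b : B, (p : B) * b = 0 → π b = 0) ∧ (∀ b : B, π b = 0 → ∃ b', b = (p : B) * b') ∧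
    π.comp ι = (algebraMap k A).comp (res p k) := by
  constructor
  · rintro ⟨h1, h2, h3, h4⟩
    rw [ker_res, Ideal.map_span, Set.image_singleton, map_natCast] at h3
    refine ⟨h2, fun b hb => ?_, fun b hb => ?_, h4⟩
    · obtain ⟨b', rfl⟩ := (ringHom_flat_iff p k ι).1 h1 b hb
      rw [← RingHom.mem_ker, h3]
      exact Ideal.mul_mem_right _ _ (Ideal.subset_span rfl)
    · rw [← RingHom.mem_ker, h3, Ideal.mem_span_singleton] at hb
      obtain ⟨c, hc⟩ := hb
      exact ⟨c, hc⟩
  · rintro ⟨h1, h2, h3, h4⟩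
    refine ⟨(ringHom_flat_iff p k ι).2 fun b hb => h3 b (h2 b hb), h1, ?_, h4⟩
    rw [ker_res, Ideal.map_span, Set.image_singleton, map_natCast]
    ext b
    rw [RingHom.mem_ker, Ideal.mem_span_singleton]
    constructor
    · intro hb
      obtain ⟨c, hc⟩ := h3 b hb
      exact ⟨c, hc⟩
    · rintro ⟨c, rfl⟩
      have h5 : π (ι (p : W2 p k)) = 0 := by
        rw [← RingHom.comp_apply, h4, RingHom.comp_apply, res_natCast, map_zero]
      rw [map_natCast] at h5
      rw [map_mul, h5, zero_mul]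

variable (h : IsLift p k A B ι π)
include h

theorem IsLift.pi_natCast : π (p : B) = 0 := by
  have h5 : π (ι (p : W2 p k)) = 0 := by
    rw [← RingHom.comp_apply, h.comm, RingHom.comp_apply, res_natCast, map_zero]
  rwa [map_natCast] at h5

theorem IsLift.natCast_target : (p : A) = 0 := by
  have := IsLift.pi_natCast h
  rwa [map_natCast] at this

theorem IsLift.natCast_mul_natCast : (p : B) * (p : B) = 0 := by
  have := congrArg ι (W2Basic.natCast_mul_natCast p k)
  rwa [map_mul, map_natCast, map_zero] at this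

theorem IsLift.natCast_mul_eq_zero_iff (b : B) : (p : B) * b = 0 ↔ π b = 0 := by
  refine ⟨(isLift_iff.1 h).2.1 b, fun hb => ?_⟩
  obtain ⟨c, rfl⟩ := (isLift_iff.1 h).2.2.1 b hb
  rw [← mul_assoc, IsLift.natCast_mul_natCast h, zero_mul]

theorem IsLift.pi_eq_zero_iff (b : B) : π b = 0 ↔ ∃ b', b = (p : B) * b' := by
  refine ⟨(isLift_iff.1 h).2.2.1 b, ?_⟩
  rintro ⟨c, rfl⟩
  rw [map_mul, IsLift.pi_natCast h, zero_mul]

/-- Multiplication by `p` as an additive map `A → B`, for a flat lifting `B → A`. -/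
noncomputable def jmap : A →+ B where
  toFun a := (p : B) * Function.surjInv h.surj a
  map_zero' := by
    rw [IsLift.natCast_mul_eq_zero_iff h, Function.surjInv_eq h.surj]
  map_add' a b := by
    rw [← sub_eq_zero, ← mul_add, ← mul_sub, IsLift.natCast_mul_eq_zero_iff h, map_sub, map_add,
      Function.surjInv_eq h.surj, Function.surjInv_eq h.surj, Function.surjInv_eq h.surj, sub_self]

theorem jmap_pi (b : B) : jmap h (π b) = (p : B) * b := by
  change (p : B) * Function.surjInv h.surj (π b) = _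
  rw [← sub_eq_zero, ← mul_sub, IsLift.natCast_mul_eq_zero_iff h, map_sub,
      Function.surjInv_eq h.surj, sub_self]

theorem jmap_eq_zero_iff (a : A) : jmap h a = 0 ↔ a = 0 := by
  obtain ⟨b, rfl⟩ := h.surj a
  rw [jmap_pi, IsLift.natCast_mul_eq_zero_iff h]

theorem jmap_injective : Function.Injective (jmap h) := by
  rw [injective_iff_map_eq_zero]
  exact fun a ha => (jmap_eq_zero_iff h a).1 ha

theorem pi_jmap (a : A) : π (jmap h a) = 0 := by
  obtain ⟨b, rfl⟩ := h.surj a
  rw [jmap_pi, map_mul, IsLift.pi_natCast h, zero_mul]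

theorem exists_jmap (b : B) (hb : π b = 0) : ∃ a, jmap h a = b := by
  obtain ⟨c, rfl⟩ := (IsLift.pi_eq_zero_iff h b).1 hb
  exact ⟨π c, jmap_pi h c⟩

theorem jmap_mul_right (a : A) (b : B) : jmap h (a * π b) = jmap h a * b := by
  obtain ⟨c, rfl⟩ := h.surj a
  rw [← map_mul, jmap_pi, jmap_pi, mul_assoc]

theorem jmap_mul_left (a : A) (b : B) : jmap h (π b * a) = b * jmap h a := by
  rw [mul_comm, jmap_mul_right, mul_comm]

theorem jmap_mul_jmap (a b : A) : jmap h a * jmap h b = 0 := by
  rw [← jmap_mul_right, pi_jmap, mul_zero, map_zero]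

omit h in
/-- Compatibility of `jmap` with morphisms of liftings. -/
theorem map_jmap {A₁ A₂ : Type v} [CommRing A₁] [CommRing A₂] [Algebra k A₁] [Algebra k A₂]
    {B₁ B₂ : Type v} [CommRing B₁] [CommRing B₂] {ι₁ : W2 p k →+* B₁} {π₁ : B₁ →+* A₁}
    {ι₂ : W2 p k →+* B₂} {π₂ : B₂ →+* A₂} (h₁ : IsLift p k A₁ B₁ ι₁ π₁)
    (h₂ : IsLift p k A₂ B₂ ι₂ π₂) (f : A₁ →+* A₂) (g : B₁ →+* B₂)
    (hfg : π₂.comp g = f.comp π₁) (a : A₁) : g (jmap h₁ a) = jmap h₂ (f a) := by
  obtain ⟨b, rfl⟩ := h₁.surj a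
  rw [jmap_pi, map_mul, map_natCast, ← RingHom.comp_apply, ← hfg, RingHom.comp_apply, jmap_pi]

end lift

section rel

/-- A ring homomorphism from a functional relation compatible with the ring operations. -/
theorem exists_ringHom_of_rel {R S : Type*} [CommRing R] [CommRing S] (r : R → S → Prop)
    (hex : ∀ x, ∃ y, r x y) (hun : ∀ x y y', r x y → r x y' → y = y')
    (hone : r 1 1) (hzero : r 0 0)
    (hadd : ∀ x x' y y', r x y → r x' y' → r (x + x') (y + y'))
    (hmul : ∀ x x' y y', r x y → r x' y' → r (x * x') (y * y')) :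
    ∃ Φ : R →+* S, ∀ x, r x (Φ x) := by
  choose F hF using hex
  exact ⟨{ toFun := F
           map_one' := hun _ _ _ (hF 1) hone
           map_zero' := hun _ _ _ (hF 0) hzero
           map_add' := fun x y => hun _ _ _ (hF _) (hadd _ _ _ _ (hF x) (hF y))
           map_mul' := fun x y => hun _ _ _ (hF _) (hmul _ _ _ _ (hF x) (hF y)) }, hF⟩

end rel

end K673.Lift
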