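import Groth.Agent.FrobAlg.K673.Lift
import Mathlib.Algebra.MvPolynomial.PDeriv
import Mathlib.Algebra.CharP.Frobenius
import Mathlib.RingTheory.Ideal.Quotient.Operations

/-!
# Polynomial rings over `W₂(k)`, their Frobenius lifts, and Frobenius lifts of quotients
-/

set_option autoImplicit false
set_option linter.unusedSectionVars false
universe u v w

namespace K673.PolyFrob

open FrobAlg K673.W2Basic K673.Lift MvPolynomial

variable {p : ℕ} [Fact p.Prime] {k : Type u} [Field k] [CharP k p] [PerfectRing k p]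
  {σ : Type w}

theorem red_surjective : Function.Surjective
    (MvPolynomial.map (res p k) : MvPolynomial σ (W2 p k) →+* MvPolynomial σ k) :=
  MvPolynomial.map_surjective _ (res_surjective p k)

/-- The polynomial ring over `W₂(k)` is a flat lifting of the polynomial ring over `k`. -/
theorem isLift_mvPolynomial : IsLift p k (MvPolynomial σ k) (MvPolynomial σ (W2 p k))
    (MvPolynomial.C) (MvPolynomial.map (res p k)) := by
  have hC : ((p : MvPolynomial σ (W2 p k))) = C (p : W2 p k) := (map_natCast C p).symm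
  refine isLift_iff.2 ⟨red_surjective, fun f hf => ?_, fun f hf => ?_, ?_⟩
  · ext m
    rw [coeff_map, coeff_zero]
    rw [← natCast_mul_eq_zero_iff p k, ← coeff_C_mul, ← hC, hf, coeff_zero]
  · have h1 : ∀ m, ∃ y, f.coeff m = (p : W2 p k) * y := fun m => by
      apply exists_eq_natCast_mul_of_res p k
      rw [← coeff_map, hf, coeff_zero]
    choose y hy using h1
    refine ⟨∑ m ∈ f.support, monomial m (y m), ?_⟩
    conv_lhs => rw [f.as_sum]
    rw [Finset.mul_sum]
    refine Finset.sum_congr rfl fun m _ => ?_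
    rw [hC, C_mul_monomial, ← hy]
  · ext w : 1
    rw [RingHom.comp_apply, map_C, RingHom.comp_apply]
    rfl

theorem red_polyFrob (f : MvPolynomial σ (W2 p k)) :
    MvPolynomial.map (res p k) (polyFrob p k σ f) = (MvPolynomial.map (res p k) f) ^ p := by
  have h : (MvPolynomial.map (res p k)).comp (polyFrob p k σ) =
      (frobenius (MvPolynomial σ k) p).comp (MvPolynomial.map (res p k)) := by
    refine MvPolynomial.ringHom_ext (fun w => ?_) (fun i => ?_)
    · rw [RingHom.comp_apply, RingHom.comp_apply, polyFrob, eval₂Hom_C, RingHom.comp_apply, map_C,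
        map_C, frobenius_def, ← C_pow]
      congr 1
      rw [res_apply, res_apply, WittGrp.coeff_frob]
    · rw [RingHom.comp_apply, RingHom.comp_apply, polyFrob, eval₂Hom_X', map_pow, map_X,
        frobenius_def]
  exact RingHom.congr_fun h f

/-- The lift of Frobenius with `X_j ↦ X_j ^ p + p h_j`. -/
noncomputable def phi (h : σ → MvPolynomial σ (W2 p k)) :
    MvPolynomial σ (W2 p k) →+* MvPolynomial σ (W2 p k) :=
  MvPolynomial.eval₂Hom (MvPolynomial.C.comp (sigma p k))
    fun i => MvPolynomial.X i ^ p + (p : MvPolynomial σ (W2 p k)) * h i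

theorem phi_C (h : σ → MvPolynomial σ (W2 p k)) (w : W2 p k) :
    phi h (C w) = C (sigma p k w) := by
  rw [phi, eval₂Hom_C]; rfl

theorem phi_X (h : σ → MvPolynomial σ (W2 p k)) (i : σ) :
    phi h (X i) = X i ^ p + (p : MvPolynomial σ (W2 p k)) * h i := by
  rw [phi, eval₂Hom_X']

theorem polyFrob_C (w : W2 p k) : polyFrob p k σ (C w) = C (sigma p k w) := by
  rw [polyFrob, eval₂Hom_C]; rfl

theorem polyFrob_X (i : σ) : polyFrob p k σ (X i) = X i ^ p := by
  rw [polyFrob, eval₂Hom_X']

/-- `p * a` only depends on the reduction of `a`. -/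
theorem natCast_mul_congr {a b : MvPolynomial σ (W2 p k)}
    (hab : MvPolynomial.map (res p k) a = MvPolynomial.map (res p k) b) :
    (p : MvPolynomial σ (W2 p k)) * a = (p : MvPolynomial σ (W2 p k)) * b := by
  rw [← sub_eq_zero, ← mul_sub, IsLift.natCast_mul_eq_zero_iff isLift_mvPolynomial, map_sub, hab,
    sub_self]

theorem phi_eq [Fintype σ] (h : σ → MvPolynomial σ (W2 p k)) (f : MvPolynomial σ (W2 p k)) :
    phi h f = polyFrob p k σ f + (p : MvPolynomial σ (W2 p k)) * ∑ j, pderiv j f ^ p * h j := by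
  classical
  have hpp : (p : MvPolynomial σ (W2 p k)) * (p : MvPolynomial σ (W2 p k)) = 0 :=
    IsLift.natCast_mul_natCast (A := MvPolynomial σ k) isLift_mvPolynomial
  have hp0 : p ≠ 0 := (Fact.out : p.Prime).ne_zero
  induction f using MvPolynomial.induction_on with
  | C w =>
    rw [phi_C, polyFrob_C]
    simp [hp0]
  | add f g hf hg =>
    have h1 : (p : MvPolynomial σ (W2 p k)) * ∑ j, pderiv j (f + g) ^ p * h j =
        (p : MvPolynomial σ (W2 p k)) * (∑ j, pderiv j f ^ p * h j + ∑ j, pderiv j g ^ p * h j) := by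
      apply natCast_mul_congr
      rw [← Finset.sum_add_distrib, map_sum, map_sum]
      refine Finset.sum_congr rfl fun j _ => ?_
      rw [map_add, map_mul, map_pow, map_add, map_add, map_mul, map_mul, map_pow, map_pow,
        add_pow_char, add_mul]
    rw [map_add, map_add, hf, hg, h1]
    ring
  | mul_X f i hf =>
    have h1 : (p : MvPolynomial σ (W2 p k)) * ∑ j, pderiv j (f * X i) ^ p * h j =
        (p : MvPolynomial σ (W2 p k)) * ((∑ j, pderiv j f ^ p * h j) * X i ^ p +
          polyFrob p k σ f * h i) := by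
      apply natCast_mul_congr
      rw [map_sum, map_add, map_mul, map_mul, red_polyFrob, map_sum, map_pow, map_X, Finset.sum_mul]
      have h2 : ∀ j, MvPolynomial.map (res p k) (pderiv j (f * X i) ^ p * h j) =
          MvPolynomial.map (res p k) (pderiv j f ^ p * h j) * X i ^ p +
          (if j = i then (MvPolynomial.map (res p k) f) ^ p * (MvPolynomial.map (res p k) (h i))
            else 0) := by
        intro j
        rw [pderiv_mul, map_mul, map_mul, map_pow, map_pow, map_add, add_pow_char, map_mul,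
          map_mul, mul_pow, mul_pow, map_X, pderiv_X]
        by_cases hj : j = i
        · subst hj
          simp
          ring
        · rw [if_neg hj, Pi.single_eq_of_ne' hj, map_zero, zero_pow hp0]
          ring
      rw [Finset.sum_congr rfl fun j _ => h2 j, Finset.sum_add_distrib,
        Finset.sum_ite_eq' Finset.univ i, if_pos (Finset.mem_univ _)]
    rw [map_mul, map_mul, phi_X, polyFrob_X, hf, h1]
    linear_combination (∑ j, pderiv j f ^ p * h j) * h i * hpp

theorem red_phi (h : σ → MvPolynomial σ (W2 p k)) (f : MvPolynomial σ (W2 p k)) :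
    MvPolynomial.map (res p k) (phi h f) = (MvPolynomial.map (res p k) f) ^ p := by
  have h : (MvPolynomial.map (res p k)).comp (phi h) =
      (frobenius (MvPolynomial σ k) p).comp (MvPolynomial.map (res p k)) := by
    refine MvPolynomial.ringHom_ext (fun w => ?_) (fun i => ?_)
    · rw [RingHom.comp_apply, RingHom.comp_apply, phi_C, map_C,
        map_C, frobenius_def, ← C_pow]
      congr 1
      rw [res_apply, res_apply, WittGrp.coeff_frob]
    · rw [RingHom.comp_apply, RingHom.comp_apply, phi_X, map_add, map_mul,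
        IsLift.pi_natCast (isLift_mvPolynomial (p := p) (k := k) (σ := σ)), zero_mul, add_zero,
        map_pow, map_X, frobenius_def]
  exact RingHom.congr_fun h f

/-- Frobenius lifts of a flat lifting presented as a quotient of a polynomial ring over `W₂(k)`. -/
theorem exists_frobLift_iff [Fintype σ] {A B : Type v} [CommRing A] [Algebra k A] [CommRing B]
    {ι : W2 p k →+* B} {π : B →+* A} (hL : IsLift p k A B ι π)
    (ψ : MvPolynomial σ (W2 p k) →+* B) (hψ : Function.Surjective ψ) (hψC : ψ.comp C = ι)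
    {τ : Type*} (f' : τ → MvPolynomial σ (W2 p k))
    (hker : RingHom.ker ψ = Ideal.span (Set.range f')) :
    (∃ Φ : B →+* B, Φ.comp ι = ι.comp (sigma p k) ∧ ∀ b, π (Φ b) = π b ^ p) ↔
    ∃ h : σ → MvPolynomial σ (W2 p k), ∀ i,
      polyFrob p k σ (f' i) - f' i ^ p
        - (p : MvPolynomial σ (W2 p k)) * ∑ j, pderiv j (f' i) ^ p * h j
        ∈ Ideal.span {(p : MvPolynomial σ (W2 p k))} * Ideal.span (Set.range f') := by
  have hf'0 : ∀ i, ψ (f' i) = 0 := fun i => by
    rw [← RingHom.mem_ker, hker]; exact Ideal.subset_span ⟨i, rfl⟩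
  have hp0 : p ≠ 0 := (Fact.out : p.Prime).ne_zero
  -- flatness
  have hflat : ∀ x, (p : MvPolynomial σ (W2 p k)) * x ∈ Ideal.span (Set.range f') →
      (p : MvPolynomial σ (W2 p k)) * x ∈ Ideal.span {(p : MvPolynomial σ (W2 p k))} *
        Ideal.span (Set.range f') := by
    intro x hx
    rw [← hker, RingHom.mem_ker, map_mul, map_natCast, IsLift.natCast_mul_eq_zero_iff hL,
      IsLift.pi_eq_zero_iff hL] at hx
    obtain ⟨b, hb⟩ := hx
    obtain ⟨y, rfl⟩ := hψ b
    have h1 : x - (p : MvPolynomial σ (W2 p k)) * y ∈ RingHom.ker ψ := by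
      rw [RingHom.mem_ker, map_sub, hb, map_mul, map_natCast, sub_self]
    rw [hker] at h1
    have h2 : (p : MvPolynomial σ (W2 p k)) * x =
        (p : MvPolynomial σ (W2 p k)) * (x - (p : MvPolynomial σ (W2 p k)) * y) := by
      have hpp : (p : MvPolynomial σ (W2 p k)) * (p : MvPolynomial σ (W2 p k)) = 0 :=
        IsLift.natCast_mul_natCast (A := MvPolynomial σ k) isLift_mvPolynomial
      linear_combination y * hpp
    rw [h2]
    exact Ideal.mul_mem_mul (Ideal.subset_span rfl) h1
  -- the shape of the elements in question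
  have hshape : ∀ (h : σ → MvPolynomial σ (W2 p k)) i, ∃ x, polyFrob p k σ (f' i) - f' i ^ p
        - (p : MvPolynomial σ (W2 p k)) * ∑ j, pderiv j (f' i) ^ p * h j =
      (p : MvPolynomial σ (W2 p k)) * x := by
    intro h i
    apply (IsLift.pi_eq_zero_iff isLift_mvPolynomial _).1
    rw [map_sub, map_sub, red_polyFrob, map_mul,
      IsLift.pi_natCast (isLift_mvPolynomial (p := p) (k := k) (σ := σ)), map_pow, zero_mul,
      sub_self, sub_zero]
  have hneg : ∀ (h : σ → MvPolynomial σ (W2 p k)) i, phi (fun j => - h j) (f' i) =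
      (polyFrob p k σ (f' i) - f' i ^ p
        - (p : MvPolynomial σ (W2 p k)) * ∑ j, pderiv j (f' i) ^ p * h j) + f' i ^ p := by
    intro h i
    rw [phi_eq]
    simp only [mul_neg, Finset.sum_neg_distrib]
    ring
  constructor
  · rintro ⟨Φ, hΦι, hΦπ⟩
    have h1 : ∀ j : σ, ∃ h : MvPolynomial σ (W2 p k),
        Φ (ψ (X j)) = ψ (X j ^ p + (p : MvPolynomial σ (W2 p k)) * (- h)) := by
      intro j
      have h2 : π (Φ (ψ (X j)) - ψ (X j ^ p)) = 0 := by
        rw [map_sub, hΦπ, map_pow, map_pow, sub_self]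
      obtain ⟨b, hb⟩ := (IsLift.pi_eq_zero_iff hL _).1 h2
      obtain ⟨y, rfl⟩ := hψ b
      refine ⟨-y, ?_⟩
      rw [neg_neg, map_add, map_mul, map_natCast, ← hb]
      ring
    choose h hh using h1
    refine ⟨h, fun i => ?_⟩
    have h3 : Φ.comp ψ = ψ.comp (phi (fun j => - h j)) := by
      refine MvPolynomial.ringHom_ext (fun w => ?_) (fun j => ?_)
      · have e1 : ψ (C w) = ι w := by rw [← hψC]; rfl
        rw [RingHom.comp_apply, RingHom.comp_apply, phi_C, e1, ← RingHom.comp_apply, hΦι, ← hψC]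
        rfl
      · rw [RingHom.comp_apply, RingHom.comp_apply, hh, phi_X]
    have h4 : ψ (phi (fun j => - h j) (f' i)) = 0 := by
      rw [← RingHom.comp_apply, ← h3, RingHom.comp_apply, hf'0, map_zero]
    rw [hneg, map_add, map_pow, hf'0, zero_pow hp0, add_zero, ← RingHom.mem_ker, hker] at h4
    obtain ⟨x, hx⟩ := hshape h i
    rw [hx] at h4 ⊢
    exact hflat x h4
  · rintro ⟨h, hh⟩
    have hle : Ideal.span {(p : MvPolynomial σ (W2 p k))} * Ideal.span (Set.range f') ≤
      Ideal.span (Set.range f') := Ideal.mul_le_right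
    have h1 : ∀ x, ψ x = 0 → ψ (phi (fun j => - h j) x) = 0 := by
      intro x hx
      rw [← RingHom.mem_ker, hker] at hx
      induction hx using Submodule.span_induction with
      | mem x hx =>
        obtain ⟨i, rfl⟩ := hx
        rw [hneg, map_add, map_pow, hf'0, zero_pow hp0, add_zero, ← RingHom.mem_ker, hker]
        exact hle (hh i)
      | zero => rw [map_zero, map_zero]
      | add x y _ _ hx hy => rw [map_add, map_add, hx, hy, add_zero]
      | smul a x _ hx => rw [smul_eq_mul, map_mul, map_mul, hx, mul_zero]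
    have h2 : ∀ x y, ψ x = ψ y →
        ψ (phi (fun j => - h j) x) = ψ (phi (fun j => - h j) y) := by
      intro x y hxy
      rw [← sub_eq_zero, ← map_sub, ← map_sub]
      apply h1
      rw [map_sub, hxy, sub_self]
    obtain ⟨Φ, hΦ⟩ := exists_ringHom_of_rel
      (fun b c : B => ∃ x, ψ x = b ∧ ψ (phi (fun j => - h j) x) = c)
      (fun b => by obtain ⟨x, hx⟩ := hψ b; exact ⟨_, x, hx, rfl⟩)
      (by rintro b c c' ⟨x, rfl, rfl⟩ ⟨y, hy, rfl⟩; exact h2 _ _ hy.symm)
      ⟨1, map_one _, by rw [map_one, map_one]⟩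
      ⟨0, map_zero _, by rw [map_zero, map_zero]⟩
      (by rintro b b' c c' ⟨x, rfl, rfl⟩ ⟨y, rfl, rfl⟩
          exact ⟨x + y, map_add _ _ _, by rw [map_add, map_add]⟩)
      (by rintro b b' c c' ⟨x, rfl, rfl⟩ ⟨y, rfl, rfl⟩
          exact ⟨x * y, map_mul _ _ _, by rw [map_mul, map_mul]⟩)
    have hΦ' : ∀ x, Φ (ψ x) = ψ (phi (fun j => - h j) x) := by
      intro x
      obtain ⟨y, hy, hy'⟩ := hΦ (ψ x)
      rw [← hy']
      exact h2 _ _ hy
    refine ⟨Φ, ?_, fun b => ?_⟩
    · ext w
      have e1 : ∀ w, ι w = ψ (C w) := fun w => by rw [← hψC]; rfl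
      rw [RingHom.comp_apply, RingHom.comp_apply, e1, e1, hΦ', phi_C]
    · obtain ⟨x, rfl⟩ := hψ b
      rw [hΦ']
      have h3 : MvPolynomial.map (res p k) (phi (fun j => - h j) x - x ^ p) = 0 := by
        rw [map_sub, red_phi, map_pow, sub_self]
      obtain ⟨y, hy⟩ := (IsLift.pi_eq_zero_iff isLift_mvPolynomial _).1 h3
      have hy' := sub_eq_iff_eq_add.1 hy
      have e2 : ψ ((p : MvPolynomial σ (W2 p k)) * y) = (p : B) * ψ y := by
        rw [map_mul, map_natCast]
      have e3 : π ((p : B) * ψ y) = 0 := by rw [map_mul π, IsLift.pi_natCast hL, zero_mul]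
      rw [hy', map_add ψ, map_add π, e2, e3, zero_add, map_pow ψ, map_pow π]

/-- A quotient of the polynomial ring over `W₂(k)` with the flatness property lifts the quotient of
the polynomial ring over `k` by the reduced ideal. -/
theorem isLift_quotient (J' : Ideal (MvPolynomial σ (W2 p k))) (J : Ideal (MvPolynomial σ k))
    (hJ : J'.map (MvPolynomial.map (res p k)) = J)
    (hle : J' ≤ J.comap (MvPolynomial.map (res p k)))
    (hflat : ∀ x, (p : MvPolynomial σ (W2 p k)) * x ∈ J' →
      ∃ y, x - (p : MvPolynomial σ (W2 p k)) * y ∈ J') :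
    IsLift p k (MvPolynomial σ k ⧸ J) (MvPolynomial σ (W2 p k) ⧸ J')
      ((Ideal.Quotient.mk J').comp C) (Ideal.quotientMap J (MvPolynomial.map (res p k)) hle) := by
  have hq : ∀ x, Ideal.quotientMap J (MvPolynomial.map (res p k)) hle (Ideal.Quotient.mk J' x) =
      Ideal.Quotient.mk J (MvPolynomial.map (res p k) x) := fun x => Ideal.quotientMap_mk
  have hred : ∀ x, MvPolynomial.map (res p k) x ∈ J →
      ∃ y, x - (p : MvPolynomial σ (W2 p k)) * y ∈ J' := by
    intro x hx
    rw [← hJ] at hx
    obtain ⟨j, hj, hjx⟩ := (Ideal.mem_map_iff_of_surjective _ red_surjective).1 hx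
    have h1 : MvPolynomial.map (res p k) (x - j) = 0 := by rw [map_sub, hjx, sub_self]
    obtain ⟨y, hy⟩ := (IsLift.pi_eq_zero_iff isLift_mvPolynomial _).1 h1
    refine ⟨y, ?_⟩
    rw [← hy, sub_sub_cancel]
    exact hj
  refine isLift_iff.2 ⟨?_, ?_, ?_, ?_⟩
  · intro a
    obtain ⟨a, rfl⟩ := Ideal.Quotient.mk_surjective a
    obtain ⟨x, rfl⟩ := red_surjective (p := p) a
    exact ⟨Ideal.Quotient.mk J' x, hq x⟩
  · intro b hb
    obtain ⟨x, rfl⟩ := Ideal.Quotient.mk_surjective b
    rw [← map_natCast (Ideal.Quotient.mk J'), ← map_mul, Ideal.Quotient.eq_zero_iff_mem] at hb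
    obtain ⟨y, hy⟩ := hflat x hb
    rw [hq, Ideal.Quotient.eq_zero_iff_mem]
    have h1 := hle hy
    rw [Ideal.mem_comap, map_sub, map_mul,
      IsLift.pi_natCast (isLift_mvPolynomial (p := p) (k := k) (σ := σ)), zero_mul, sub_zero] at h1
    exact h1
  · intro b hb
    obtain ⟨x, rfl⟩ := Ideal.Quotient.mk_surjective b
    rw [hq, Ideal.Quotient.eq_zero_iff_mem] at hb
    obtain ⟨y, hy⟩ := hred x hb
    refine ⟨Ideal.Quotient.mk J' y, ?_⟩
    rwa [← map_natCast (Ideal.Quotient.mk J'), ← map_mul, Ideal.Quotient.eq]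
  · ext w
    change Ideal.quotientMap J (MvPolynomial.map (res p k)) hle (Ideal.Quotient.mk J' (C w)) = _
    rw [hq, map_C]
    rfl

end K673.PolyFrob
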