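import Mathlib.LinearAlgebra.DirectSum.Finsupp
import Mathlib.Algebra.Module.Projective
import Mathlib.RingTheory.Finiteness.Projective

/-!
# Tensor products of projective modules with submodules of products
-/

set_option autoImplicit false

namespace K673.ProjPi

open TensorProduct

variable {R : Type*} [CommRing R] {M : Type*} [AddCommGroup M] [Module R M]
  {P : Type*} [AddCommGroup P] [Module R P] {I : Type*} {N : I → Type*}
  [∀ i, AddCommGroup (N i)] [∀ i, Module R (N i)]

/-- For `M` projective and a jointly injective family `P → N i`, the family `M ⊗ P → M ⊗ N i` is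
jointly injective. -/
theorem eq_zero_of_lTensor_eq_zero [Module.Projective R M] (ev : ∀ i, P →ₗ[R] N i)
    (hev : ∀ x, (∀ i, ev i x = 0) → x = 0) (t : M ⊗[R] P)
    (ht : ∀ i, LinearMap.lTensor M (ev i) t = 0) : t = 0 := by
  classical
  obtain ⟨s, hs⟩ := Module.projective_def'.1 (inferInstance : Module.Projective R M)
  have h1 : LinearMap.rTensor P s t = 0 := by
    apply (TensorProduct.finsuppScalarLeft R P M).injective
    rw [map_zero]
    ext m
    apply hev
    intro i
    rw [TensorProduct.finsuppScalarLeft_apply]
    have h2 : ev i (TensorProduct.lid R P ((Finsupp.lapply m).rTensor P (LinearMap.rTensor P s t))) =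
        TensorProduct.lid R (N i) ((Finsupp.lapply m).rTensor (N i) (LinearMap.rTensor (N i) s
          (LinearMap.lTensor M (ev i) t))) := by
      clear ht
      induction t with
      | zero => simp
      | tmul x y => simp
      | add x y hx hy => simp only [map_add, hx, hy]
    rw [h2, ht i, map_zero, map_zero, map_zero]
  have h3 : t = LinearMap.rTensor P (Finsupp.linearCombination R id ∘ₗ s) t := by
    rw [hs, LinearMap.rTensor_id, LinearMap.id_apply]
  rw [h3, LinearMap.rTensor_comp, LinearMap.comp_apply, h1, map_zero]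

theorem exists_lTensor_eq [Module.Finite R M] [Module.Projective R M] (ev : ∀ i, P →ₗ[R] N i)
    (y : ∀ i, M ⊗[R] N i)
    (hy : ∀ φ : M →ₗ[R] R, ∃ x : P, ∀ i, ev i x = TensorProduct.lid R (N i) (φ.rTensor (N i) (y i))) :
    ∃ t : M ⊗[R] P, ∀ i, LinearMap.lTensor M (ev i) t = y i := by
  classical
  obtain ⟨n, f, g, -, -, hfg⟩ := Module.Finite.exists_comp_eq_id_of_projective R M
  choose x hx using fun j : Fin n => hy ((LinearMap.proj j) ∘ₗ g)
  refine ⟨∑ j, f (Pi.single j 1) ⊗ₜ[R] x j, fun i => ?_⟩
  rw [map_sum]
  simp only [LinearMap.lTensor_tmul, hx]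
  have h1 : ∀ z : M ⊗[R] N i, ∑ j, f (Pi.single j 1) ⊗ₜ[R]
      (TensorProduct.lid R (N i)) ((LinearMap.rTensor (N i) (LinearMap.proj j ∘ₗ g)) z) = z := by
    intro z
    induction z with
    | zero => simp
    | tmul a b =>
      simp only [LinearMap.rTensor_tmul, TensorProduct.lid_tmul, TensorProduct.tmul_smul]
      have h2 : a = ∑ j, (g a j) • f (Pi.single j 1) := by
        conv_lhs => rw [← LinearMap.id_apply (R := R) a, ← hfg, LinearMap.comp_apply,
          pi_eq_sum_univ' (g a), map_sum]
        refine Finset.sum_congr rfl fun j _ => ?_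
        rw [map_smul]
      conv_rhs => rw [h2, TensorProduct.sum_tmul]
      refine Finset.sum_congr rfl fun j _ => ?_
      rw [TensorProduct.smul_tmul']
      rfl
    | add a b ha hb =>
      simp only [map_add, TensorProduct.tmul_add, Finset.sum_add_distrib, ha, hb]
  exact h1 (y i)

end K673.ProjPi
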