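import Groth.Prelude.Def_W4c1liftfrobW2
import Mathlib.RingTheory.Flat.Basic
import Mathlib.RingTheory.Flat.Tensor
import Mathlib.RingTheory.WittVector.Domain
import Mathlib.FieldTheory.Perfect

/-!
# Basic facts about `W₂(k)` for a perfect ring `k` and flatness over it
-/

set_option autoImplicit false
universe u v

namespace K673.W2Basic

open FrobAlg

section ring

variable (p : ℕ) [Fact p.Prime] (k : Type u) [CommRing k] [CharP k p]

theorem natCast_mul_truncate (X : WittVector p k) :
    (p : W2 p k) * WittVector.truncate 2 X =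
      WittVector.truncate 2 (WittVector.verschiebung (WittVector.frobenius X)) := by
  rw [WittVector.verschiebung_frobenius, map_mul, map_natCast, mul_comm]

theorem coeff_zero_natCast_mul (x : W2 p k) : ((p : W2 p k) * x).coeff 0 = 0 := by
  obtain ⟨X, rfl⟩ := WittVector.truncate_surjective p 2 k x
  rw [natCast_mul_truncate, WittVector.coeff_truncate]
  exact WittVector.verschiebung_coeff_zero _

theorem coeff_one_natCast_mul (x : W2 p k) : ((p : W2 p k) * x).coeff 1 = (x.coeff 0) ^ p := by
  obtain ⟨X, rfl⟩ := WittVector.truncate_surjective p 2 k x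
  rw [natCast_mul_truncate, WittVector.coeff_truncate, WittVector.coeff_truncate]
  change (WittVector.verschiebung (WittVector.frobenius X)).coeff (0 + 1) = (X.coeff 0) ^ p
  rw [WittVector.verschiebung_coeff_succ, WittVector.coeff_frobenius_charP]

theorem res_natCast : res p k (p : W2 p k) = 0 := by
  rw [map_natCast, CharP.cast_eq_zero]

theorem natCast_mul_natCast : (p : W2 p k) * (p : W2 p k) = 0 := by
  refine TruncatedWittVector.ext fun i => ?_
  fin_cases i
  · exact (coeff_zero_natCast_mul p k _).trans (TruncatedWittVector.coeff_zero _ _ _ _).symm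
  · refine (coeff_one_natCast_mul p k _).trans ?_
    rw [← res_apply, res_natCast, zero_pow (Fact.out : p.Prime).ne_zero]
    exact (TruncatedWittVector.coeff_zero _ _ _ _).symm

theorem natCast_mul_eq_zero_of_res (x : W2 p k) (hx : res p k x = 0) : (p : W2 p k) * x = 0 := by
  refine TruncatedWittVector.ext fun i => ?_
  fin_cases i
  · exact (coeff_zero_natCast_mul p k _).trans (TruncatedWittVector.coeff_zero _ _ _ _).symm
  · refine (coeff_one_natCast_mul p k _).trans ?_
    rw [← res_apply, hx, zero_pow (Fact.out : p.Prime).ne_zero]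
    exact (TruncatedWittVector.coeff_zero _ _ _ _).symm

theorem natCast_mul_eq_zero_iff [PerfectRing k p] (x : W2 p k) :
    (p : W2 p k) * x = 0 ↔ res p k x = 0 := by
  refine ⟨fun h => ?_, natCast_mul_eq_zero_of_res p k x⟩
  have h1 := coeff_one_natCast_mul p k x
  rw [h, TruncatedWittVector.coeff_zero] at h1
  rw [res_apply]
  have := (PerfectRing.bijective_frobenius (R := k) (p := p)).1
  apply this
  change (x.coeff 0) ^ p = 0 ^ p
  rw [← h1, zero_pow (Fact.out : p.Prime).ne_zero]

omit [CharP k p] in
theorem res_surjective : Function.Surjective (res p k) := by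
  intro a
  refine ⟨TruncatedWittVector.mk p ![a, 0], ?_⟩
  rw [res_apply, TruncatedWittVector.coeff_mk]
  rfl

theorem exists_eq_natCast_mul_of_res [PerfectRing k p] (x : W2 p k) (hx : res p k x = 0) :
    ∃ y : W2 p k, x = (p : W2 p k) * y := by
  obtain ⟨b, hb⟩ := (PerfectRing.bijective_frobenius (R := k) (p := p)).2 (x.coeff 1)
  change b ^ p = _ at hb
  refine ⟨TruncatedWittVector.mk p ![b, 0], TruncatedWittVector.ext fun i => ?_⟩
  rw [res_apply] at hx
  fin_cases i
  · exact hx.trans (coeff_zero_natCast_mul p k _).symm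
  · refine Eq.trans ?_ (coeff_one_natCast_mul p k _).symm
    rw [TruncatedWittVector.coeff_mk]
    exact hb.symm

theorem ker_res [PerfectRing k p] : RingHom.ker (res p k) = Ideal.span {(p : W2 p k)} := by
  ext x
  rw [RingHom.mem_ker, Ideal.mem_span_singleton]
  constructor
  · intro hx
    obtain ⟨y, hy⟩ := exists_eq_natCast_mul_of_res p k x hx
    exact ⟨y, hy⟩
  · rintro ⟨y, rfl⟩
    rw [map_mul, res_natCast, zero_mul]

theorem isUnit_iff_res (x : W2 p k) : IsUnit x ↔ IsUnit (res p k x) := by
  refine ⟨fun h => h.map _, fun h => ?_⟩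
  obtain ⟨b, hb⟩ := h.exists_right_inv
  obtain ⟨y, rfl⟩ := res_surjective p k b
  have hz : res p k (x * y - 1) = 0 := by rw [map_sub, map_mul, hb, map_one, sub_self]
  have hnil : (x * y - 1) * (x * y - 1) = 0 := by
    refine TruncatedWittVector.ext fun i => ?_
    obtain ⟨X, hX⟩ := WittVector.truncate_surjective p 2 k (x * y - 1)
    rw [← hX]
    have h0 : X.coeff 0 = 0 := by
      rw [← res_truncate, hX, hz]
    have hX1 : X = WittVector.verschiebung (X.shift 1) := by
      have := WittVector.verschiebung_shift X 0 (fun i hi => by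
        have : i = 0 := by omega
        rw [this, h0])
      rw [this]
      ext n
      rw [WittVector.shift_coeff, Nat.zero_add] 
    rw [← map_mul, TruncatedWittVector.coeff_zero, WittVector.coeff_truncate]
    have h2 := WittVector.iterate_verschiebung_mul (X.shift 1) (X.shift 1) 1 1
    rw [Function.iterate_one, ← hX1] at h2
    rw [h2]
    exact WittVector.iterate_verschiebung_coeff_eq_zero _ i.2
  have hu : IsUnit (x * y) := by
    have : x * y = 1 + (x * y - 1) := by ring
    rw [this]
    exact IsNilpotent.isUnit_one_add ⟨2, by rw [pow_two, hnil]⟩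
  exact isUnit_of_mul_isUnit_left hu

end ring

section field

variable (p : ℕ) [Fact p.Prime] (k : Type u) [Field k] [CharP k p] [PerfectRing k p]

/-- The ideals of `W₂(k)`, for `k` a perfect field, are `0`, `(p)` and the whole ring. -/
theorem ideal_eq (I : Ideal (W2 p k)) : I = ⊥ ∨ I = Ideal.span {(p : W2 p k)} ∨ I = ⊤ := by
  by_cases hu : ∃ x ∈ I, res p k x ≠ 0
  · obtain ⟨x, hx, hx0⟩ := hu
    right; right
    exact Ideal.eq_top_of_isUnit_mem _ hx ((isUnit_iff_res p k x).2 (isUnit_iff_ne_zero.2 hx0))
  · push Not at hu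
    by_cases h0 : ∃ x ∈ I, x ≠ 0
    · right; left
      obtain ⟨x, hx, hx0⟩ := h0
      apply le_antisymm
      · intro y hy
        rw [← ker_res, RingHom.mem_ker]
        exact hu y hy
      · rw [Ideal.span_singleton_le_iff_mem]
        obtain ⟨y, rfl⟩ := exists_eq_natCast_mul_of_res p k x (hu x hx)
        have hy : IsUnit y := by
          rw [isUnit_iff_res, isUnit_iff_ne_zero]
          intro h
          exact hx0 (natCast_mul_eq_zero_of_res p k y h)
        obtain ⟨z, hz⟩ := hy.exists_right_inv
        have : (p : W2 p k) = (p : W2 p k) * y * z := by rw [mul_assoc, hz, mul_one]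
        rw [this]
        exact I.mul_mem_right _ hx
    · left
      push Not at h0
      rw [eq_bot_iff]
      intro x hx
      rw [h0 x hx]
      exact zero_mem _

/-- Flatness over `W₂(k)`: every element killed by `p` is a multiple of `p`. -/
theorem flat_iff (M : Type v) [AddCommGroup M] [Module (W2 p k) M] :
    Module.Flat (W2 p k) M ↔
      ∀ m : M, (p : W2 p k) • m = 0 → ∃ m' : M, m = (p : W2 p k) • m' := by
  constructor
  · intro hM m hm
    -- use the equational criterion on the relation `p • m = 0`
    have hex : Function.Exact (LinearMap.mulLeft (W2 p k) (p : W2 p k))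
        (LinearMap.mulLeft (W2 p k) (p : W2 p k)) := by
      intro x
      rw [LinearMap.mulLeft_apply]
      constructor
      · intro hx
        obtain ⟨y, hy⟩ := exists_eq_natCast_mul_of_res p k x ((natCast_mul_eq_zero_iff p k x).1 hx)
        exact ⟨y, hy.symm⟩
      · rintro ⟨y, rfl⟩
        rw [LinearMap.mulLeft_apply, ← mul_assoc, natCast_mul_natCast, zero_mul]
    have h2 := Module.Flat.lTensor_exact M hex
    have h3 : (LinearMap.lTensor M (LinearMap.mulLeft (W2 p k) (p : W2 p k)))
        (m ⊗ₜ[W2 p k] (1 : W2 p k)) = 0 := by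
      rw [LinearMap.lTensor_tmul, LinearMap.mulLeft_apply, mul_one]
      have : (m ⊗ₜ[W2 p k] (p : W2 p k)) = ((p : W2 p k) • m) ⊗ₜ[W2 p k] (1 : W2 p k) := by
        rw [TensorProduct.smul_tmul, smul_eq_mul, mul_one]
      rw [this, hm, TensorProduct.zero_tmul]
    obtain ⟨t, ht⟩ := (h2 _).1 h3
    refine ⟨TensorProduct.rid _ _ t, ?_⟩
    have h4 := congrArg (TensorProduct.rid (W2 p k) M) ht
    rw [TensorProduct.rid_tmul, one_smul] at h4
    rw [← h4]
    clear h4 ht h3
    induction t with
    | zero => simp
    | tmul x y =>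
      rw [LinearMap.lTensor_tmul, LinearMap.mulLeft_apply, TensorProduct.rid_tmul,
        TensorProduct.rid_tmul, mul_smul]
    | add x y hx hy => rw [map_add, map_add, hx, hy, map_add, smul_add]
  · intro h
    rw [Module.Flat.iff_rTensor_injective']
    intro I
    rcases ideal_eq p k I with rfl | rfl | rfl
    · intro x y _
      have hs : Subsingleton (TensorProduct (W2 p k) (⊥ : Ideal (W2 p k)) M) := by
        refine ⟨fun a b => ?_⟩
        have h0 : ∀ a : TensorProduct (W2 p k) (⊥ : Ideal (W2 p k)) M, a = 0 := by
          intro a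
          induction a with
          | zero => rfl
          | tmul x y =>
            have : x = 0 := Subsingleton.elim _ _
            rw [this, TensorProduct.zero_tmul]
          | add x y hx hy => rw [hx, hy, add_zero]
        rw [h0 a, h0 b]
      exact hs.elim _ _
    · rw [injective_iff_map_eq_zero]
      intro t ht
      have hp : (p : W2 p k) ∈ Ideal.span {(p : W2 p k)} := Ideal.subset_span rfl
      have key : ∃ m : M, t = (⟨(p : W2 p k), hp⟩ : Ideal.span {(p : W2 p k)}) ⊗ₜ[W2 p k] m := by
        clear ht
        induction t with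
        | zero => exact ⟨0, by rw [TensorProduct.tmul_zero]⟩
        | tmul x m =>
          obtain ⟨a, ha⟩ := Ideal.mem_span_singleton'.1 x.2
          refine ⟨a • m, ?_⟩
          rw [← TensorProduct.smul_tmul]
          congr 1
          exact Subtype.ext (by simpa using ha.symm)
        | add x y hx hy =>
          obtain ⟨m, hm⟩ := hx
          obtain ⟨n, hn⟩ := hy
          exact ⟨m + n, by rw [hm, hn, TensorProduct.tmul_add]⟩
      obtain ⟨m, rfl⟩ := key
      rw [LinearMap.rTensor_tmul] at ht
      have h1 := congrArg (TensorProduct.lid (W2 p k) M) ht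
      rw [TensorProduct.lid_tmul, map_zero] at h1
      obtain ⟨m', rfl⟩ := h m h1
      rw [TensorProduct.tmul_smul, TensorProduct.smul_tmul']
      have : (p : W2 p k) • (⟨(p : W2 p k), hp⟩ : Ideal.span {(p : W2 p k)}) = 0 :=
        Subtype.ext (natCast_mul_natCast p k)
      rw [this, TensorProduct.zero_tmul]
    · have : (Submodule.subtype (⊤ : Ideal (W2 p k))) =
          (LinearEquiv.ofTop (⊤ : Submodule (W2 p k) (W2 p k)) rfl).toLinearMap := rfl
      rw [this]
      exact (LinearEquiv.rTensor M (LinearEquiv.ofTop (⊤ : Submodule (W2 p k) (W2 p k)) rfl)).injective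

end field

end K673.W2Basic
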